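import Cfsg.Agent.Lib.RuSylow.Upper
import Cfsg.Agent.Lib.PGroup.Frattini

/-!
2-groups `T` of order at least `2 ^ 14` with `|Z₄(T)| = 16` such that, for `W = C_T(Z₃(T))`, the
Frattini subgroup of `W` has order at most 8 and lies in every subgroup of `W` of index at most 16
(the Sylow 2-subgroup of the Rudvalis group satisfies this): orders, the action on `Z₃`, and the
coordinates of `W/Φ(W)` as functions on `T/W`.
-/

namespace Cfsg.Agent.RuSylow

open scoped commutatorElement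

variable {T : Type*} [Group T] [Finite T]

/-- Shorthand for the upper central series. -/
abbrev Z (T : Type*) [Group T] (i : ℕ) : Subgroup T := Subgroup.upperCentralSeries T i

/-- The hypotheses on `T` and `W`. -/
structure Hyp (T : Type*) [Group T] (W : Subgroup T) : Prop where
  hT : IsPGroup 2 T
  card_ge : 2 ^ 14 ≤ Nat.card T
  card_Z4 : Nat.card ↥(Subgroup.upperCentralSeries T 4) = 16
  eq_W : W = Subgroup.centralizer ((Subgroup.upperCentralSeries T 3 : Subgroup T) : Set T)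
  card_frattini : Nat.card ↥(frattini ↥W) ≤ 8
  le_of_index : ∀ U : Subgroup ↥W, U.index ≤ 16 → frattini ↥W ≤ U

/-- Generators of the successive factors of `Z₃`. -/
structure Frame (T : Type*) [Group T] (z b c : T) : Prop where
  hz : z ∈ Z T 1
  hz1 : z ≠ 1
  hb : b ∈ Z T 2
  hb1 : b ∉ Z T 1
  hc : c ∈ Z T 3
  hc2 : c ∉ Z T 2

variable {W : Subgroup T}

namespace Hyp

theorem card_Z (h : Hyp T W) {i : ℕ} (hi : i ≤ 4) : Nat.card (Z T i) = 2 ^ i :=
  card_ucs h.hT h.card_ge h.card_Z4 i hi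

theorem eq_Z_of_card (h : Hyp T W) {i : ℕ} (hi : i ≤ 4) (N : Subgroup T) [hN : N.Normal]
    (hc : Nat.card N = 2 ^ i) : N = Z T i :=
  Subgroup.eq_of_le_of_card_ge (le_ucs_of_card_le h.hT i N hN hc.le)
    (le_of_eq ((h.card_Z hi).trans hc.symm))

theorem normal_W (h : Hyp T W) : W.Normal := by
  rw [h.eq_W]; infer_instance

theorem exists_frame (h : Hyp T W) : ∃ z b c : T, Frame T z b c := by
  have hlt : ∀ {i j : ℕ}, i < j → j ≤ 4 → ∃ x ∈ Z T j, x ∉ Z T i := by
    intro i j hij hj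
    by_contra hc
    push Not at hc
    have := Subgroup.card_le_of_le (show Z T j ≤ Z T i from hc)
    rw [h.card_Z hj, h.card_Z (by omega)] at this
    exact absurd (Nat.pow_lt_pow_right (by norm_num : 1 < 2) hij) (not_lt.mpr this)
  obtain ⟨z, hz, hz'⟩ := hlt (show 0 < 1 by norm_num) (by norm_num)
  obtain ⟨b, hb, hb'⟩ := hlt (show 1 < 2 by norm_num) (by norm_num)
  obtain ⟨c, hc, hc'⟩ := hlt (show 2 < 3 by norm_num) (by norm_num)
  exact ⟨z, b, c, hz, fun e => hz' (e ▸ one_mem _), hb, hb', hc, hc'⟩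

/-- The Frattini subgroup of `W`, inside `T`. -/
theorem phi_eq (h : Hyp T W) :
    ∃ k ≤ 3, (frattini ↥W).map W.subtype = Z T k ∧ Nat.card ↥(frattini ↥W) = 2 ^ k := by
  haveI := h.normal_W
  obtain ⟨k, hk⟩ := PGroup.card_eq_pow (h.hT.to_subgroup W) (frattini ↥W)
  have hk3 : k ≤ 3 := by
    by_contra hc
    have : 2 ^ 4 ≤ 2 ^ k := Nat.pow_le_pow_right (by norm_num) (by omega)
    have := h.card_frattini
    omega
  refine ⟨k, hk3, h.eq_Z_of_card (by omega) _ ?_, hk⟩
  rw [← hk]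
  exact (Nat.card_congr ((frattini ↥W).equivMapOfInjective _ W.subtype_injective).toEquiv).symm

theorem sq_mem_phi (h : Hyp T W) {x : T} (hx : x ∈ W) : x * x ∈ (frattini ↥W).map W.subtype :=
  ⟨⟨x, hx⟩ ^ 2, PGroup.pow_mem_frattini (h.hT.to_subgroup W) _, by simp [pow_two]⟩

theorem comm_mem_phi (h : Hyp T W) {x y : T} (hx : x ∈ W) (hy : y ∈ W) :
    ⁅x, y⁆ ∈ (frattini ↥W).map W.subtype :=
  ⟨⁅(⟨x, hx⟩ : W), ⟨y, hy⟩⁆, PGroup.commutator_le_frattini (h.hT.to_subgroup W)
    (Subgroup.commutator_mem_commutator (Subgroup.mem_top _) (Subgroup.mem_top _)),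
    by simp [commutatorElement_def]⟩

theorem commute_W (h : Hyp T W) {i : ℕ} (hi : i ≤ 3) {x w : T} (hx : x ∈ Z T i) (hw : w ∈ W) :
    x * w = w * x := by
  rw [h.eq_W] at hw
  exact Subgroup.mem_centralizer_iff.mp hw x (Subgroup.upperCentralSeries_mono T hi hx)

theorem comm_mem_Z {i : ℕ} {x : T} (hx : x ∈ Z T (i + 1)) (t : T) :
    t * x * t⁻¹ * x⁻¹ ∈ Z T i := by
  have h1 := inv_mem (Subgroup.mem_upperCentralSeries_succ_iff.mp hx t)
  rwa [commutatorElement_inv, commutatorElement_def] at h1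

theorem sq_mem_Z (h : Hyp T W) {i : ℕ} (hi : i ≤ 3) {x : T} (hx : x ∈ Z T (i + 1)) :
    x * x ∈ Z T i := by
  by_cases hx' : x ∈ Z T i
  · exact mul_mem hx' hx'
  have := mul_inv_mem_of_card (Subgroup.upperCentralSeries_mono T (Nat.le_succ i))
    (by rw [h.card_Z (by omega), h.card_Z (by omega), pow_succ']) (inv_mem hx)
    (by rwa [inv_mem_iff]) hx hx'
  simpa using this

theorem mem_Z_or (h : Hyp T W) {i : ℕ} (hi : i ≤ 3) {g x : T} (hg : g ∈ Z T (i + 1))
    (hg' : g ∉ Z T i) (hx : x ∈ Z T (i + 1)) : x ∈ Z T i ∨ x * g⁻¹ ∈ Z T i := by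
  by_cases hx' : x ∈ Z T i
  · exact Or.inl hx'
  · exact Or.inr (mul_inv_mem_of_card (Subgroup.upperCentralSeries_mono T (Nat.le_succ i))
      (by rw [h.card_Z (by omega), h.card_Z (by omega), pow_succ']) hg hg' hx hx')

theorem eq_one_or_eq (h : Hyp T W) {z b c x : T} (F : Frame T z b c) (hx : x ∈ Z T 1) :
    x = 1 ∨ x = z := by
  have hz0 : ∀ {y : T}, y ∈ Z T 0 → y = 1 := fun {y} hy => by
    simpa [Z, Subgroup.upperCentralSeries_zero] using hy
  rcases h.mem_Z_or (by norm_num) F.hz (fun e => F.hz1 (hz0 e)) hx with h' | h'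
  · exact Or.inl (hz0 h')
  · exact Or.inr (mul_inv_eq_one.mp (hz0 h'))

end Hyp

/-- The model of `T/W`: unitriangular coordinates `(i, j, k)`. -/
abbrev P : Type := ZMod 2 × ZMod 2 × ZMod 2

/-- The composition law of `P`. -/
def pmul (p q : P) : P := (p.1 + q.1, p.2.1 + q.2.1 + p.1 * q.2.2, p.2.2 + q.2.2)

section Coordinates

open Classical in
/-- The coordinates of the action of `t` on `Z₃`. -/
noncomputable def iota (b c : T) (t : T) : P :=
  let k : ZMod 2 := if t * c * t⁻¹ * c⁻¹ ∈ Z T 1 then 0 else 1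
  (if t * b * t⁻¹ * b⁻¹ = 1 then 0 else 1,
    if t * c * t⁻¹ * c⁻¹ * (b ^ k.val)⁻¹ = 1 then 0 else 1, k)

theorem iota_spec (h : Hyp T W) {z b c : T} (F : Frame T z b c) (t : T) :
    t * b * t⁻¹ = z ^ (iota b c t).1.val * b ∧
      t * c * t⁻¹ = z ^ (iota b c t).2.1.val * b ^ (iota b c t).2.2.val * c := by
  classical
  constructor
  · rcases h.eq_one_or_eq F (Hyp.comm_mem_Z F.hb t) with e | e
    · have : (iota b c t).1 = 0 := by simp only [iota]; rw [if_pos e]
      rw [this, ZMod.val_zero, pow_zero, one_mul]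
      exact mul_inv_eq_one.mp e
    · have : (iota b c t).1 = 1 := by
        simp only [iota]; rw [if_neg (fun e' => F.hz1 (e ▸ e'))]
      rw [this, ZMod.val_one, pow_one]
      exact mul_inv_eq_iff_eq_mul.mp e
  · obtain ⟨k, hk, hk'⟩ : ∃ k : ZMod 2, (iota b c t).2.2 = k ∧
        t * c * t⁻¹ * c⁻¹ * (b ^ k.val)⁻¹ ∈ Z T 1 := by
      refine ⟨_, rfl, ?_⟩
      by_cases e : t * c * t⁻¹ * c⁻¹ ∈ Z T 1
      · have : (iota b c t).2.2 = 0 := by simp only [iota]; rw [if_pos e]
        simpa [this] using e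
      · have : (iota b c t).2.2 = 1 := by simp only [iota]; rw [if_neg e]
        rw [this, ZMod.val_one, pow_one]
        exact (h.mem_Z_or (by norm_num) F.hb F.hb1 (Hyp.comm_mem_Z F.hc t)).resolve_left e
    rw [hk]
    have hdef : (iota b c t).2.1 =
        if t * c * t⁻¹ * c⁻¹ * (b ^ k.val)⁻¹ = 1 then 0 else 1 := by
      rw [← hk]; rfl
    rcases h.eq_one_or_eq F hk' with e | e
    · rw [hdef, if_pos e, ZMod.val_zero, pow_zero, one_mul]
      exact mul_inv_eq_iff_eq_mul.mp (mul_inv_eq_one.mp e)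
    · rw [hdef, if_neg (fun e' => F.hz1 (e ▸ e')), ZMod.val_one, pow_one]
      exact mul_inv_eq_iff_eq_mul.mp (mul_inv_eq_iff_eq_mul.mp e)

theorem mem_W_of_fix (h : Hyp T W) {z b c : T} (F : Frame T z b c) {t : T}
    (hb : Commute t b) (hc : Commute t c) : t ∈ W := by
  rw [h.eq_W, Subgroup.mem_centralizer_iff]
  intro x hx
  have hz : ∀ y ∈ Z T 1, Commute t y := fun y hy => by
    have hy' : y ∈ Subgroup.center T := by rw [← Subgroup.upperCentralSeries_one]; exact hy
    exact Subgroup.mem_center_iff.mp hy' t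
  have h2 : ∀ y ∈ Z T 2, Commute t y := fun y hy => by
    rcases h.mem_Z_or (by norm_num) F.hb F.hb1 hy with h' | h'
    · exact hz y h'
    · have := (hz _ h').mul_right hb
      rwa [inv_mul_cancel_right] at this
  have : Commute t x := by
    rcases h.mem_Z_or (by norm_num) F.hc F.hc2 hx with h' | h'
    · exact h2 x h'
    · have := (h2 _ h').mul_right hc
      rwa [inv_mul_cancel_right] at this
  exact this.eq.symm

theorem iota_eq_iff (h : Hyp T W) {z b c : T} (F : Frame T z b c) (s t : T) :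
    iota b c s = iota b c t ↔ t⁻¹ * s ∈ W := by
  constructor
  · intro e
    obtain ⟨h1, h2⟩ := iota_spec h F s
    obtain ⟨h3, h4⟩ := iota_spec h F t
    rw [e, ← h3] at h1
    rw [e, ← h4] at h2
    have key : ∀ x : T, s * x * s⁻¹ = t * x * t⁻¹ → Commute (t⁻¹ * s) x := fun x hx => by
      show t⁻¹ * s * x = x * (t⁻¹ * s)
      calc t⁻¹ * s * x = t⁻¹ * (s * x * s⁻¹) * s := by group
        _ = x * (t⁻¹ * s) := by rw [hx]; group
    exact mem_W_of_fix h F (key b h1) (key c h2)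
  · intro e
    have key : ∀ {i : ℕ}, i ≤ 3 → ∀ x ∈ Z T i, s * x * s⁻¹ = t * x * t⁻¹ := fun {i} hi x hx => by
      have := h.commute_W hi hx e
      calc s * x * s⁻¹ = t * (t⁻¹ * s * x) * s⁻¹ := by group
        _ = t * (x * (t⁻¹ * s)) * s⁻¹ := by rw [this]
        _ = t * x * t⁻¹ := by group
    have e1 : s * b * s⁻¹ = t * b * t⁻¹ := key (i := 2) (by norm_num) b F.hb
    have e2 : s * c * s⁻¹ = t * c * t⁻¹ := key (i := 3) le_rfl c F.hc
    unfold iota
    rw [e1, e2]

end Coordinates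

/-- A functional on `W/Φ(W)` which is nonzero on the fixed point `v`. -/
structure Functional (W : Subgroup T) (f : T → ZMod 2) (v : T) : Prop where
  map_mul : ∀ x ∈ W, ∀ y ∈ W, f (x * y) = f x + f y
  phi : ∀ x ∈ (frattini ↥W).map W.subtype, f x = 0
  hv : v ∈ W
  apply_v : f v = 1
  comm_v : ∀ t : T, t * v * t⁻¹ * v⁻¹ ∈ (frattini ↥W).map W.subtype

namespace Functional

variable {f : T → ZMod 2} {v : T}

theorem map_one (hf : Functional W f v) : f 1 = 0 := hf.phi 1 (one_mem _)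

theorem map_inv (hf : Functional W f v) {x : T} (hx : x ∈ W) : f x⁻¹ = f x := by
  have := hf.map_mul x hx x⁻¹ (inv_mem hx)
  rw [mul_inv_cancel, hf.map_one] at this
  revert this
  generalize f x = a
  generalize f x⁻¹ = a'
  revert a a'
  decide

theorem map_conj (h : Hyp T W) (hf : Functional W f v) {z b c : T} (F : Frame T z b c) {s t x : T}
    (e : iota b c s = iota b c t) (hx : x ∈ W) : f (s * x * s⁻¹) = f (t * x * t⁻¹) := by
  haveI := h.normal_W
  have hw := (iota_eq_iff h F s t).mp e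
  have hn : ∀ {y : T}, y ∈ W → t * y * t⁻¹ ∈ W := fun {y} hy =>
    (inferInstance : W.Normal).conj_mem y hy t
  rw [show s * x * s⁻¹ = (t * (t⁻¹ * s) * t⁻¹) * (t * x * t⁻¹) * (t * (t⁻¹ * s) * t⁻¹)⁻¹ by group,
    hf.map_mul _ (mul_mem (hn hw) (hn hx)) _ (inv_mem (hn hw)), hf.map_mul _ (hn hw) _ (hn hx),
    hf.map_inv (hn hw)]
  generalize f (t * x * t⁻¹) = a
  generalize f (t * (t⁻¹ * s) * t⁻¹) = a'
  revert a a'
  decide

end Functional

open Classical in
theorem exists_functional (h : Hyp T W) :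
    ∃ (k : ℕ) (f : T → ZMod 2) (v : T), k ≤ 3 ∧ (frattini ↥W).map W.subtype = Z T k ∧
      Nat.card ↥(frattini ↥W) = 2 ^ k ∧ v ∈ Z T (k + 1) ∧ Z T (k + 1) ≤ W ∧
      Functional W f v := by
  haveI := h.normal_W
  obtain ⟨k, hk, hΦ, hcard⟩ := h.phi_eq
  have hle : Z T k ≤ W := hΦ ▸ Subgroup.map_subtype_le _
  have hne : Z T k < W := by
    refine lt_of_le_of_ne hle fun e => ?_
    -- then `T/W` would have at most 8 elements and `T` at most 64
    obtain ⟨z, b, c, F⟩ := h.exists_frame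
    have hinj : Function.Injective (fun q : T ⧸ W => iota b c q.out) := by
      intro p q hpq
      have := (iota_eq_iff h F _ _).mp hpq
      rw [← QuotientGroup.out_eq' p, ← QuotientGroup.out_eq' q]
      exact (QuotientGroup.eq.mpr this).symm
    have h1 := Nat.card_le_card_of_injective _ hinj
    have h2 := Subgroup.card_eq_card_quotient_mul_card_subgroup W
    have h3 : Nat.card W ≤ 8 := by
      rw [← e, h.card_Z (by omega)]
      exact Nat.pow_le_pow_right (by norm_num : 0 < 2) hk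
    have h4 : Nat.card P = 8 := by simp [P]
    rw [h4] at h1
    have := h.card_ge
    nlinarith
  obtain ⟨L, hL, hNL, hLM, hLc⟩ := PGroup.exists_normal_step h.hT (Z T k) W hne
  haveI := hL
  have hLZ : L = Z T (k + 1) :=
    h.eq_Z_of_card (by omega) L (by rw [hLc, h.card_Z (by omega), pow_succ])
  obtain ⟨v, hv, hvk⟩ := SetLike.exists_of_lt hNL
  have hvW : v ∈ W := hLM hv
  have hvf : (⟨v, hvW⟩ : W) ∉ frattini ↥W := fun e => hvk (hΦ ▸ ⟨_, e, rfl⟩)
  obtain ⟨M, hM, hvM⟩ : ∃ M : Subgroup W, IsCoatom M ∧ (⟨v, hvW⟩ : W) ∉ M := by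
    by_contra hc
    push Not at hc
    exact hvf (Subgroup.mem_iInf.mpr fun M => Subgroup.mem_iInf.mpr fun hM => hc M hM)
  have hidx := PGroup.index_of_isCoatom (h.hT.to_subgroup W) hM
  refine ⟨k, fun x => if x ∈ M.map W.subtype then 0 else 1, v, hk, hΦ, hcard, hLZ ▸ hv, hLZ ▸ hLM,
    ?_, ?_, hvW, ?_, ?_⟩
  · intro x hx y hy
    have hm : ∀ {u : T} (hu : u ∈ W), u ∈ M.map W.subtype ↔ (⟨u, hu⟩ : W) ∈ M := fun {u} hu =>
      ⟨fun ⟨u', h', e⟩ => (show u' = ⟨u, hu⟩ from Subtype.ext e) ▸ h', fun h' => ⟨_, h', rfl⟩⟩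
    have hmul := Subgroup.mul_mem_iff_of_index_two hidx (a := ⟨x, hx⟩) (b := ⟨y, hy⟩)
    have hmul' : x * y ∈ M.map W.subtype ↔ ((⟨x, hx⟩ : W) ∈ M ↔ (⟨y, hy⟩ : W) ∈ M) := by
      rw [hm (mul_mem hx hy)]; exact hmul
    by_cases h1 : (⟨x, hx⟩ : W) ∈ M <;> by_cases h2 : (⟨y, hy⟩ : W) ∈ M <;>
      simp only [hm hx, hm hy, hmul', h1, h2, if_true, if_false, iff_self, iff_false, iff_true,
        not_true, not_false_eq_true] <;> decide
  · intro x hx
    exact if_pos (Subgroup.map_mono (frattini_le_coatom hM) hx)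
  · refine if_neg fun ⟨u, hu, e⟩ => hvM ?_
    exact (show u = ⟨v, hvW⟩ from Subtype.ext e) ▸ hu
  · intro t
    rw [hΦ]
    exact Hyp.comm_mem_Z (hLZ ▸ hv) t

section Theta

variable {f : T → ZMod 2} {v : T}

/-- The coordinates of an element of `W` as a function on `P`. -/
noncomputable def theta (b c : T) (f : T → ZMod 2) (x : T) (p : P) : ZMod 2 :=
  f (Function.invFun (iota b c) p * x * (Function.invFun (iota b c) p)⁻¹)

theorem theta_iota (h : Hyp T W) (hf : Functional W f v) {z b c : T} (F : Frame T z b c) {x : T}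
    (hx : x ∈ W) (t : T) : theta b c f x (iota b c t) = f (t * x * t⁻¹) :=
  hf.map_conj h F (Function.invFun_eq ⟨t, rfl⟩) hx

theorem theta_mul (h : Hyp T W) (hf : Functional W f v) (b c : T) {x y : T} (hx : x ∈ W)
    (hy : y ∈ W) : theta b c f (x * y) = theta b c f x + theta b c f y := by
  haveI := h.normal_W
  funext p
  simp only [theta, Pi.add_apply]
  generalize Function.invFun (iota b c) p = r
  rw [← hf.map_mul _ ((inferInstance : W.Normal).conj_mem x hx r) _
    ((inferInstance : W.Normal).conj_mem y hy r)]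
  congr 1
  group

theorem mem_phi_of_forall (h : Hyp T W) (hf : Functional W f v) {x : T} (hx : x ∈ W)
    (h0 : ∀ t : T, f (t * x * t⁻¹) = 0) : x ∈ (frattini ↥W).map W.subtype := by
  haveI := h.normal_W
  obtain ⟨k, hk, hΦ, -⟩ := h.phi_eq
  have hcj : ∀ {y : T}, y ∈ W → ∀ t : T, t * y * t⁻¹ ∈ W := fun {y} hy t =>
    (inferInstance : W.Normal).conj_mem y hy t
  let K : Subgroup T :=
    { carrier := {y | y ∈ W ∧ ∀ t : T, f (t * y * t⁻¹) = 0}
      one_mem' := ⟨one_mem _, fun t => by simp [hf.map_one]⟩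
      mul_mem' := fun {a a'} ha ha' => ⟨mul_mem ha.1 ha'.1, fun t => by
        rw [show t * (a * a') * t⁻¹ = (t * a * t⁻¹) * (t * a' * t⁻¹) by group,
          hf.map_mul _ (hcj ha.1 t) _ (hcj ha'.1 t), ha.2 t, ha'.2 t, add_zero]⟩
      inv_mem' := fun {a} ha => ⟨inv_mem ha.1, fun t => by
        rw [show t * a⁻¹ * t⁻¹ = (t * a * t⁻¹)⁻¹ by group, hf.map_inv (hcj ha.1 t), ha.2 t]⟩ }
  haveI : K.Normal := ⟨fun y hy g => ⟨hcj hy.1 g, fun t => by
    rw [show t * (g * y * g⁻¹) * t⁻¹ = (t * g) * y * (t * g)⁻¹ by group]; exact hy.2 _⟩⟩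
  by_contra hxΦ
  rw [hΦ] at hxΦ
  have hle : Z T k ≤ K := fun y hy => by
    have hy' : y ∈ (frattini ↥W).map W.subtype := hΦ ▸ hy
    refine ⟨Subgroup.map_subtype_le _ hy', fun t => hf.phi _ ?_⟩
    rw [hΦ]
    exact (inferInstance : (Z T k).Normal).conj_mem y hy t
  obtain ⟨L, hL, hNL, hLK, hLc⟩ := PGroup.exists_normal_step h.hT (Z T k) K
    (lt_of_le_of_ne hle fun e => hxΦ (e ▸ ⟨hx, h0⟩))
  haveI := hL
  have hLZ : L = Z T (k + 1) :=
    h.eq_Z_of_card (by omega) L (by rw [hLc, h.card_Z (by omega), pow_succ])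
  have hv : v ∈ Z T (k + 1) := by
    rw [Subgroup.mem_upperCentralSeries_succ_iff]
    intro y
    have h1 := inv_mem (hf.comm_v y)
    rw [hΦ] at h1
    rwa [mul_inv_rev, mul_inv_rev, mul_inv_rev, inv_inv, inv_inv, ← mul_assoc, ← mul_assoc,
      ← commutatorElement_def] at h1
  have := (hLK (hLZ ▸ hv)).2 1
  rw [one_mul, inv_one, mul_one, hf.apply_v] at this
  exact one_ne_zero this

theorem mem_phi_of_theta (h : Hyp T W) (hf : Functional W f v) {z b c : T} (F : Frame T z b c)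
    {x : T} (hx : x ∈ W) (h0 : theta b c f x = 0) : x ∈ (frattini ↥W).map W.subtype :=
  mem_phi_of_forall h hf hx fun t => by rw [← theta_iota h hf F hx t, h0]; rfl

end Theta

/-- Exact orders: `|T| = 2 ^ 14`, `|T : W| = 8`, `|Φ(W)| = 8`, and the coordinates are bijective. -/
theorem main_counts (h : Hyp T W) {z b c : T} (F : Frame T z b c) :
    Nat.card T = 2 ^ 14 ∧ W.index = 8 ∧ Nat.card W = 2 ^ 11 ∧
      (frattini ↥W).map W.subtype = Z T 3 ∧ Nat.card ↥(frattini ↥W) = 8 ∧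
      Function.Surjective (iota b c) ∧
      ∀ (f : T → ZMod 2) (v : T), Functional W f v → ∀ F : P → ZMod 2,
        ∃ x ∈ W, theta b c f x = F := by
  classical
  haveI := h.normal_W
  haveI := Fintype.ofFinite T
  obtain ⟨k, f₀, v₀, hk, hΦ, hcard, -, -, hf₀⟩ := exists_functional h
  let g : T ⧸ W → P := fun q => iota b c q.out
  have hinj : Function.Injective g := by
    intro p q hpq
    have := (iota_eq_iff h F _ _).mp hpq
    rw [← QuotientGroup.out_eq' p, ← QuotientGroup.out_eq' q]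
    exact (QuotientGroup.eq.mpr this).symm
  have hP : Nat.card P = 8 := by simp [P]
  have h1 := Nat.card_le_card_of_injective g hinj
  rw [hP] at h1
  let θ : ∀ f v, Functional W f v → W →* Multiplicative (P → ZMod 2) := fun f v hf =>
    MonoidHom.mk' (fun x => Multiplicative.ofAdd (theta b c f x)) fun x y => by
      simp only [Subgroup.coe_mul, theta_mul h hf b c x.2 y.2, ofAdd_add]
  have hker : ∀ f v (hf : Functional W f v), (θ f v hf).ker ≤ frattini ↥W := by
    intro f v hf x hx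
    obtain ⟨u, hu, e⟩ := mem_phi_of_theta h hf F x.2 hx
    exact (show u = x from Subtype.ext e) ▸ hu
  have hR : Nat.card (Multiplicative (P → ZMod 2)) = 2 ^ 8 := by
    simp [P, Nat.card_pi]
  have hW2 : ∀ f v (hf : Functional W f v), Nat.card W ≤ 2 ^ k * Nat.card (θ f v hf).range := by
    intro f v hf
    rw [← (θ f v hf).ker.card_mul_index, Subgroup.index_ker, ← hcard]
    exact Nat.mul_le_mul_right _ (Subgroup.card_le_of_le (hker f v hf))
  have hrange : ∀ f v (hf : Functional W f v), Nat.card (θ f v hf).range ≤ 2 ^ 8 := fun f v hf =>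
    hR ▸ Subgroup.card_le_card_group _
  have hT' := Subgroup.card_eq_card_quotient_mul_card_subgroup W
  have hk2 : 2 ^ k ≤ 8 := Nat.pow_le_pow_right (by norm_num : 0 < 2) hk
  have hW11 : Nat.card W ≤ 2 ^ 11 :=
    (hW2 f₀ v₀ hf₀).trans ((Nat.mul_le_mul hk2 (hrange f₀ v₀ hf₀)).trans (by norm_num))
  have hge := h.card_ge
  have hq : Nat.card (T ⧸ W) = 8 := by nlinarith
  have hWc : Nat.card W = 2 ^ 11 := by rw [hq] at hT'; omega
  have hk8 : 2 ^ k = 8 := by
    have := (hW2 f₀ v₀ hf₀).trans (Nat.mul_le_mul_left _ (hrange f₀ v₀ hf₀))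
    omega
  have hk3 : k = 3 := Nat.pow_right_injective le_rfl (hk8.trans (by norm_num : 8 = 2 ^ 3))
  subst hk3
  have hg : Function.Bijective g :=
    (Nat.bijective_iff_injective_and_card g).mpr ⟨hinj, hq.trans hP.symm⟩
  refine ⟨by rw [hT', hq, hWc]; norm_num, hq, hWc, hΦ, hcard, fun p => ?_, fun f v hf G => ?_⟩
  · obtain ⟨q, hq'⟩ := hg.2 p
    exact ⟨q.out, hq'⟩
  · have hc8 : 2 ^ 8 ≤ Nat.card (θ f v hf).range := by
      have := hW2 f v hf
      omega
    have htop : (θ f v hf).range = ⊤ := Subgroup.eq_top_of_le_card _ (hR ▸ hc8)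
    obtain ⟨x, hx⟩ : Multiplicative.ofAdd G ∈ (θ f v hf).range := htop ▸ Subgroup.mem_top _
    exact ⟨x, x.2, hx⟩

end Cfsg.Agent.RuSylow
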