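import Cfsg.Agent.Lib.RuSylow.Square

/-!
The Rudvalis-type 2-groups: `Z(W) = Z₃`. If the fixed point of `T/W` on `W/Φ(W)` were central in
`W`, there would be a subgroup of index 8 in `W` with all squares in `Z₂`.
-/

namespace Cfsg.Agent.RuSylow

open scoped commutatorElement

variable {T : Type*} [Group T] [Finite T] {W : Subgroup T}

open Classical in
/-- The nontrivial functional on `Z₃/Z₂`. -/
noncomputable def chi (x : T) : ZMod 2 := if x ∈ Z T 2 then 0 else 1

theorem chi_eq_zero {x : T} : chi x = 0 ↔ x ∈ Z T 2 := by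
  unfold chi
  split
  · simp [*]
  · simp [*]

theorem chi_conj (t x : T) : chi (t * x * t⁻¹) = chi x := by
  classical
  have hiff : t * x * t⁻¹ ∈ Z T 2 ↔ x ∈ Z T 2 := by
    constructor
    · intro h
      simpa [mul_assoc] using (inferInstance : (Z T 2).Normal).conj_mem _ h t⁻¹
    · intro h
      exact (inferInstance : (Z T 2).Normal).conj_mem _ h t
  unfold chi
  rw [if_congr hiff rfl rfl]

theorem chi_mul (h : Hyp T W) {x y : T} (hx : x ∈ Z T 3) (hy : y ∈ Z T 3) :
    chi (x * y) = chi x + chi y := by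
  classical
  by_cases h1 : x ∈ Z T 2
  · rw [chi_eq_zero.mpr h1, zero_add]
    unfold chi
    rw [if_congr ((Z T 2).mul_mem_cancel_left h1) rfl rfl]
  by_cases h2 : y ∈ Z T 2
  · rw [chi_eq_zero.mpr h2, add_zero]
    unfold chi
    rw [if_congr ((Z T 2).mul_mem_cancel_right h2) rfl rfl]
  have h3 : x * y ∈ Z T 2 := by
    have := mul_inv_mem_of_card (K := Z T 2) (L := Z T 3)
      (Subgroup.upperCentralSeries_mono T (by norm_num))
      (by rw [h.card_Z (by norm_num), h.card_Z (by norm_num)]; norm_num) (inv_mem hy)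
      (by rwa [inv_mem_iff]) hx h1
    rwa [inv_inv] at this
  rw [chi_eq_zero.mpr h3]
  unfold chi
  rw [if_neg h1, if_neg h2]
  rfl

/-- The quadratic map of `W` to `Z₃/Z₂`. -/
noncomputable def sigma (x : T) : ZMod 2 := chi (x * x)

/-- Its bilinear form. -/
noncomputable def beta (x y : T) : ZMod 2 := chi ⁅x, y⁆

theorem comm_mul_left (h : Hyp T W) {x x' y : T} (hx : x ∈ W) (hx' : x' ∈ W) (hy : y ∈ W) :
    ⁅x * x', y⁆ = ⁅x, y⁆ * ⁅x', y⁆ := by
  have hu := h.comm_mem_Z3 hx' hy
  have hv := h.comm_mem_Z3 hx hy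
  calc ⁅x * x', y⁆ = x * ⁅x', y⁆ * (y * x⁻¹ * y⁻¹) := by
        simp only [commutatorElement_def]; group
    _ = (⁅x', y⁆ * x) * (y * x⁻¹ * y⁻¹) := by rw [← h.commute_Z3 hu hx]
    _ = ⁅x', y⁆ * ⁅x, y⁆ := by simp only [commutatorElement_def]; group
    _ = ⁅x, y⁆ * ⁅x', y⁆ := h.commute_Z3 hu (h.Z3_le hv)

theorem comm_inv_left (h : Hyp T W) {x y : T} (hx : x ∈ W) (hy : y ∈ W) : ⁅x⁻¹, y⁆ = ⁅x, y⁆ := by
  have h2 := comm_mul_left h hx (inv_mem hx) hy
  rw [mul_inv_cancel, commutatorElement_one_left] at h2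
  rw [eq_inv_of_mul_eq_one_right h2.symm, h.inv_Z3 (h.comm_mem_Z3 hx hy)]

theorem beta_mul_left (h : Hyp T W) {x x' y : T} (hx : x ∈ W) (hx' : x' ∈ W) (hy : y ∈ W) :
    beta (x * x') y = beta x y + beta x' y := by
  unfold beta
  rw [comm_mul_left h hx hx' hy, chi_mul h (h.comm_mem_Z3 hx hy) (h.comm_mem_Z3 hx' hy)]

theorem beta_symm (h : Hyp T W) {x y : T} (hx : x ∈ W) (hy : y ∈ W) : beta x y = beta y x := by
  unfold beta
  rw [← commutatorElement_inv y x, h.inv_Z3 (h.comm_mem_Z3 hy hx)]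

theorem beta_mul_right (h : Hyp T W) {x y y' : T} (hx : x ∈ W) (hy : y ∈ W) (hy' : y' ∈ W) :
    beta x (y * y') = beta x y + beta x y' := by
  rw [beta_symm h hx (mul_mem hy hy'), beta_mul_left h hy hy' hx, beta_symm h hy hx,
    beta_symm h hy' hx]

theorem beta_phi (h : Hyp T W) {u y : T} (hu : u ∈ Z T 3) (hy : y ∈ W) : beta u y = 0 := by
  unfold beta
  rw [commutatorElement_eq_one_iff_mul_comm.mpr (h.commute_Z3 hu hy), chi_eq_zero]
  exact one_mem _

theorem beta_conj (t x y : T) : beta (t * x * t⁻¹) (t * y * t⁻¹) = beta x y := by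
  unfold beta
  rw [show ⁅t * x * t⁻¹, t * y * t⁻¹⁆ = t * ⁅x, y⁆ * t⁻¹ by
    simp only [commutatorElement_def]; group, chi_conj]

theorem sigma_mul (h : Hyp T W) {x y : T} (hx : x ∈ W) (hy : y ∈ W) :
    sigma (x * y) = sigma x + sigma y + beta x y := by
  unfold sigma
  have e : x * y * (x * y) = (x * x) * ⁅x⁻¹, y⁆ * (y * y) := by
    rw [commutatorElement_def]; group
  rw [e, comm_inv_left h hx hy,
    chi_mul h (mul_mem (h.sq_mem_Z3 hx) (h.comm_mem_Z3 hx hy)) (h.sq_mem_Z3 hy),
    chi_mul h (h.sq_mem_Z3 hx) (h.comm_mem_Z3 hx hy), beta]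
  ring

theorem sigma_conj (t x : T) : sigma (t * x * t⁻¹) = sigma x := by
  unfold sigma
  rw [show t * x * t⁻¹ * (t * x * t⁻¹) = t * (x * x) * t⁻¹ by group, chi_conj]

theorem sigma_phi (h : Hyp T W) {u : T} (hu : u ∈ Z T 3) : sigma u = 0 := by
  unfold sigma
  rw [h.mul_self_Z3 hu, chi_eq_zero]
  exact one_mem _

theorem zmod_two_add_self : ∀ a : ZMod 2, a + a = 0 := by decide

theorem theta_conj (h : Hyp T W) {z b c : T} (F : Frame T z b c) {f : T → ZMod 2} {v : T}
    (hf : Functional W f v) {x : T} (hx : x ∈ W) (t : T) (p : P) :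
    theta b c f (t * x * t⁻¹) p = theta b c f x (pmul p (iota b c t)) := by
  haveI := h.normal_W
  obtain ⟨s, rfl⟩ := (main_counts h F).2.2.2.2.2.1 p
  rw [theta_iota h hf F ((inferInstance : W.Normal).conj_mem x hx t), ← iota_mul h F,
    theta_iota h hf F hx]
  congr 1
  group

/-- Equal coordinates up to `Z₃`. -/
theorem exists_eq_mul_of_theta (h : Hyp T W) {z b c : T} (F : Frame T z b c) {f : T → ZMod 2}
    {v : T} (hf : Functional W f v) {x y : T} (hx : x ∈ W) (hy : y ∈ W)
    (e : theta b c f x = theta b c f y) : ∃ u ∈ Z T 3, x = u * y := by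
  refine ⟨x * y⁻¹, ?_, by group⟩
  rw [← h.phi_eq_Z3]
  refine mem_phi_of_theta h hf F (mul_mem hx (inv_mem hy)) ?_
  have h1 := theta_mul h hf b c (mul_mem hx (inv_mem hy)) hy
  rw [inv_mul_cancel_right, e] at h1
  exact left_eq_add.mp (h1.trans (add_comm _ _)) ▸ rfl

theorem beta_conj_iota (h : Hyp T W) {z b c : T} (F : Frame T z b c) {s t x y : T} (hx : x ∈ W)
    (hy : y ∈ W) (e : iota b c s = iota b c t) :
    beta x (s * y * s⁻¹) = beta x (t * y * t⁻¹) := by
  haveI := h.normal_W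
  have hw := (iota_eq_iff h F s t).mp e
  have hwy : (t⁻¹ * s) * y * (t⁻¹ * s)⁻¹ = ⁅t⁻¹ * s, y⁆ * y := by rw [commutatorElement_def]; group
  have hz := h.comm_mem_Z3 hw hy
  have hzt : t * ⁅t⁻¹ * s, y⁆ * t⁻¹ ∈ Z T 3 := (inferInstance : (Z T 3).Normal).conj_mem _ hz t
  have hty : t * y * t⁻¹ ∈ W := (inferInstance : W.Normal).conj_mem _ hy t
  rw [show s * y * s⁻¹ = (t * ⁅t⁻¹ * s, y⁆ * t⁻¹) * (t * y * t⁻¹) by
      rw [commutatorElement_def]; group,
    beta_mul_right h hx (h.Z3_le hzt) hty, beta_symm h hx (h.Z3_le hzt), beta_phi h hzt hx,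
    zero_add]

/-- An element fixing `Z₂` but not `c` fixes no element of `Z₃` outside `Z₂`. -/
theorem chi_eq_zero_of_fixed (h : Hyp T W) {z b c : T} (F : Frame T z b c) {t u : T}
    (ht : iota b c t = ((0, 0, 1) : P)) (hu : u ∈ Z T 3) (hfix : t * u * t⁻¹ = u) : chi u = 0 := by
  rw [chi_eq_zero]
  rcases h.mem_Z_or (by norm_num) F.hc F.hc2 hu with hu2 | hu2
  · exact hu2
  exfalso
  obtain ⟨h1, h2⟩ := iota_spec h F t
  rw [ht] at h1 h2
  simp only [ZMod.val_zero, ZMod.val_one, pow_zero, pow_one, one_mul] at h1 h2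
  have hz : ∀ y ∈ Z T 1, Commute t y := fun y hy => by
    rcases h.eq_one_or_eq F hy with rfl | rfl
    · exact Commute.one_right t
    · exact F.z_comm t
  have hb : Commute t b := mul_inv_eq_iff_eq_mul.mp h1
  have h2' : Commute t (u * c⁻¹) := by
    rcases h.mem_Z_or (by norm_num) F.hb F.hb1 hu2 with e | e
    · exact hz _ e
    · have := (hz _ e).mul_right hb
      rwa [inv_mul_cancel_right] at this
  have hct : Commute t c := by
    have := (show Commute t u from mul_inv_eq_iff_eq_mul.mp hfix).symm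
    have h3 := h2'.inv_right.mul_right this.symm
    rwa [mul_inv_rev, inv_inv, inv_mul_cancel_right] at h3
  rw [hct.eq, mul_inv_cancel_right] at h2
  exact F.hb1 (by rw [right_eq_mul] at h2; rw [h2]; exact one_mem _)

theorem centre_aux (h : Hyp T W) {f : T → ZMod 2} {v : T} (hf : Functional W f v)
    (hvc : ∀ y ∈ W, v * y = y * v) : False := by
  classical
  haveI := h.normal_W
  obtain ⟨z, b, c, F⟩ := h.exists_frame
  obtain ⟨-, -, -, hΦ, -, hsurj, hθ⟩ := main_counts h F
  have hθs := hθ f v hf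
  obtain ⟨τ, hτ⟩ := hsurj ((0, 0, 1) : P)
  obtain ⟨α, hα⟩ := hsurj ((0, 1, 0) : P)
  obtain ⟨β', hβ⟩ := hsurj ((1, 0, 0) : P)
  have hcj : ∀ {x : T}, x ∈ W → ∀ t : T, t * x * t⁻¹ ∈ W := fun {x} hx t =>
    (inferInstance : W.Normal).conj_mem x hx t
  have hττ : τ * τ ∈ W := by
    rw [mem_W_iff h F, iota_mul h F, hτ]; decide
  have htheta2 : ∀ {x : T}, x ∈ W → ∀ t p,
      theta b c f (x * (t * x * t⁻¹)) p = theta b c f x p + theta b c f x (pmul p (iota b c t)) :=
    fun {x} hx t p => by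
      rw [theta_mul h hf b c hx (hcj hx t), Pi.add_apply, theta_conj h F hf hx]
  have hτ' : ∀ {x y : T}, x ∈ W → y ∈ W →
      beta x (τ * y * τ⁻¹) = beta (τ * x * τ⁻¹) y := fun {x y} hx hy => by
    rw [← beta_conj τ x (τ * y * τ⁻¹),
      show τ * (τ * y * τ⁻¹) * τ⁻¹ = (τ * τ) * y * (τ * τ)⁻¹ by group,
      beta_conj_iota h F (hcj hx τ) hy
        ((iota_eq_iff h F (τ * τ) 1).mpr (by rw [inv_one, one_mul]; exact hττ)),
      one_mul, inv_one, mul_one]
  -- products `u (τ u τ⁻¹)`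
  have hD : ∀ {u : T}, u ∈ W → sigma (u * (τ * u * τ⁻¹)) = 0 := by
    intro u hu
    rw [sigma_mul h hu (hcj hu τ), sigma_conj, zmod_two_add_self, zero_add]
    refine chi_eq_zero_of_fixed h F hτ (h.comm_mem_Z3 hu (hcj hu τ)) ?_
    have e : τ * ⁅u, τ * u * τ⁻¹⁆ * τ⁻¹ = ⁅τ * u * τ⁻¹, (τ * τ) * u * (τ * τ)⁻¹⁆ := by
      simp only [commutatorElement_def]; group
    have hw : (τ * τ) * u * (τ * τ)⁻¹ = ⁅τ * τ, u⁆ * u := by rw [commutatorElement_def]; group
    have hzz := h.comm_mem_Z3 hττ hu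
    have hu' := hcj hu τ
    have hcm : ⁅τ * u * τ⁻¹, ⁅τ * τ, u⁆ * u⁆ = ⁅τ * u * τ⁻¹, u⁆ := by
      rw [← commutatorElement_inv, comm_mul_left h (h.Z3_le hzz) hu hu',
        commutatorElement_eq_one_iff_mul_comm.mpr (h.commute_Z3 hzz hu'), one_mul,
        commutatorElement_inv]
    rw [e, hw, hcm, ← commutatorElement_inv u, h.inv_Z3 (h.comm_mem_Z3 hu (hcj hu τ))]
  -- the extra element `y`
  obtain ⟨e, heW, he⟩ := hθs fun p => if p = 0 then 1 else 0
  let u := e * (β' * e * β'⁻¹)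
  have hu : u ∈ W := mul_mem heW (hcj heW β')
  let y := u * (α * u * α⁻¹)
  have hy : y ∈ W := mul_mem hu (hcj hu α)
  have hθy : ∀ p : P, theta b c f y p = if p.2.2 = 0 then 1 else 0 := by
    intro p
    have hu' : ∀ q : P, theta b c f u q
        = (if q = 0 then (1 : ZMod 2) else 0) + (if pmul q (1, 0, 0) = 0 then 1 else 0) := fun q => by
      rw [htheta2 heW β' q, hβ, he]
    rw [htheta2 hu α p, hα, hu' p, hu' _]
    revert p
    decide
  have hσy : sigma y = 0 := by
    show sigma (u * (α * u * α⁻¹)) = 0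
    rw [sigma_mul h hu (hcj hu α), sigma_conj, zmod_two_add_self, zero_add]
    have hbe := hcj heW β'
    have hae := hcj heW α
    have hab : α * (β' * e * β'⁻¹) * α⁻¹ = (α * β') * e * (α * β')⁻¹ := by group
    have habe := hcj hbe α
    show beta (e * (β' * e * β'⁻¹)) (α * (e * (β' * e * β'⁻¹)) * α⁻¹) = 0
    rw [show α * (e * (β' * e * β'⁻¹)) * α⁻¹ = (α * e * α⁻¹) * (α * (β' * e * β'⁻¹) * α⁻¹) by group,
      beta_mul_left h heW hbe (mul_mem hae habe), beta_mul_right h heW hae habe,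
      beta_mul_right h hbe hae habe]
    have e1 : beta (β' * e * β'⁻¹) (α * e * α⁻¹) = beta e (α * (β' * e * β'⁻¹) * α⁻¹) := by
      rw [show α * e * α⁻¹ = β' * ((β'⁻¹ * α) * e * (β'⁻¹ * α)⁻¹) * β'⁻¹ by group, beta_conj, hab]
      refine beta_conj_iota h F heW heW ?_
      have hβi : iota b c β'⁻¹ = ((1, 0, 0) : P) := by
        have hmul := iota_mul h F β' β'⁻¹
        rw [mul_inv_cancel, iota_one h F, hβ] at hmul
        generalize iota b c β'⁻¹ = q at hmul ⊢
        revert hmul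
        revert q
        decide
      rw [iota_mul h F, iota_mul h F, hα, hβ, hβi]
      decide
    have e2 : beta (β' * e * β'⁻¹) (α * (β' * e * β'⁻¹) * α⁻¹) = beta e (α * e * α⁻¹) := by
      rw [show α * (β' * e * β'⁻¹) * α⁻¹
        = β' * ((β'⁻¹ * α * β') * e * (β'⁻¹ * α * β')⁻¹) * β'⁻¹ by group, beta_conj]
      refine beta_conj_iota h F heW heW ?_
      have hβi : iota b c β'⁻¹ = ((1, 0, 0) : P) := by
        have hmul := iota_mul h F β' β'⁻¹
        rw [mul_inv_cancel, iota_one h F, hβ] at hmul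
        generalize iota b c β'⁻¹ = q at hmul ⊢
        revert hmul
        revert q
        decide
      rw [iota_mul h F, iota_mul h F, hα, hβ, hβi]
      decide
    rw [e1, e2]
    generalize beta e (α * e * α⁻¹) = r1
    generalize beta e (α * (β' * e * β'⁻¹) * α⁻¹) = r2
    revert r1 r2
    decide
  -- `y (τ y τ⁻¹)` is congruent to `v`
  have hθv : theta b c f v = fun _ => 1 := by
    funext p
    obtain ⟨s, rfl⟩ := hsurj p
    rw [theta_iota h hf F hf.hv]
    have h1 := hf.comm_v s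
    have h2 := hf.map_mul _ (Subgroup.map_subtype_le _ h1) v hf.hv
    rw [inv_mul_cancel_right, hf.phi _ h1, zero_add, hf.apply_v] at h2
    exact h2
  have hvy : ∃ q ∈ Z T 3, y * (τ * y * τ⁻¹) = q * v := by
    refine exists_eq_mul_of_theta h F hf (mul_mem hy (hcj hy τ)) hf.hv (funext fun p => ?_)
    rw [htheta2 hy τ p, hθy, hθy, hτ, hθv]
    revert p
    decide
  have hβy : ∀ {x : T}, x ∈ W → beta (x * (τ * x * τ⁻¹)) y = 0 := by
    intro x hx
    rw [beta_mul_left h hx (hcj hx τ) hy, ← hτ' hx hy, ← beta_mul_right h hx hy (hcj hy τ)]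
    obtain ⟨q, hq, e⟩ := hvy
    rw [e, beta_mul_right h hx (h.Z3_le hq) hf.hv, beta_symm h hx (h.Z3_le hq), beta_phi h hq hx,
      zero_add, beta_symm h hx hf.hv]
    unfold beta
    rw [commutatorElement_eq_one_iff_mul_comm.mpr (hvc x hx), chi_eq_zero]
    exact one_mem _
  -- the subgroup of index at most 8
  let G : T → P → ZMod 2 := fun x p => theta b c f x p + theta b c f x (pmul p (iota b c τ))
  have hG : ∀ {x x' : T}, x ∈ W → x' ∈ W → ∀ p, G (x * x') p = G x p + G x' p := by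
    intro x x' hx hx' p
    simp only [G, theta_mul h hf b c hx hx', Pi.add_apply]
    abel
  let d : W →* Multiplicative (ZMod 2 × ZMod 2 × ZMod 2) := MonoidHom.mk' (fun x =>
    Multiplicative.ofAdd (G x (1, 0, 0) + G x 0, G x (0, 1, 0) + G x 0, G x (1, 1, 0) + G x 0))
    (fun x x' => by
      rw [← ofAdd_add]
      congr 1
      simp only [Subgroup.coe_mul, hG x.2 x'.2, Prod.mk_add_mk]
      refine Prod.ext ?_ (Prod.ext ?_ ?_) <;> simp only <;> abel)
  have hidx : (d.ker.map W.subtype).relIndex W ≤ 8 := by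
    rw [Subgroup.relIndex, Subgroup.subgroupOf,
      Subgroup.comap_map_eq_self_of_injective W.subtype_injective, Subgroup.index_ker]
    refine le_trans (Subgroup.card_le_card_group _) (le_of_eq ?_)
    simp
  refine h.no_square_subgroup (Z T 2) (d.ker.map W.subtype) (Subgroup.map_subtype_le _) hidx F.hc
    ⟨⟨c, h.Z3_le F.hc⟩, ?_, rfl⟩ F.hc2 ?_
  · have hc0 : theta b c f c = 0 := by
      funext p
      obtain ⟨s, rfl⟩ := hsurj p
      rw [theta_iota h hf F (h.Z3_le F.hc)]
      refine hf.phi _ ?_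
      rw [hΦ]
      exact (inferInstance : (Z T 3).Normal).conj_mem c F.hc s
    show Multiplicative.ofAdd _ = 1
    simp only [G, hc0, Pi.zero_apply, add_zero]
    rfl
  · rintro _ ⟨x, hx, rfl⟩
    rw [← chi_eq_zero]
    show sigma (x : T) = 0
    have hd := congrArg Multiplicative.toAdd (show d x = 1 from hx)
    simp only [d, MonoidHom.mk'_apply, toAdd_ofAdd, toAdd_one, Prod.ext_iff, Prod.fst_zero,
      Prod.snd_zero] at hd
    have hconst : ∀ p : P, G x p = G x 0 := by
      have hinvt : ∀ p : P, G x (pmul p (iota b c τ)) = G x p := by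
        intro p
        simp only [G]
        rw [add_comm]
        congr 1
        rw [hτ]
        congr 1
        revert p
        decide
      obtain ⟨d1, d2, d3⟩ := hd
      have e1 : ∀ a a' : ZMod 2, a + a' = 0 → a = a' := by decide
      have hk0 : ∀ p : P, p.2.2 = 0 → G x p = G x 0 := by
        rintro ⟨i, j, k⟩ hk
        simp only at hk
        subst hk
        rcases zmod_two_cases i with rfl | rfl <;> rcases zmod_two_cases j with rfl | rfl
        · rfl
        · exact e1 _ _ d2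
        · exact e1 _ _ d1
        · exact e1 _ _ d3
      intro p
      rcases zmod_two_cases p.2.2 with hk | hk
      · exact hk0 p hk
      · rw [← hinvt p]
        refine hk0 _ ?_
        rw [hτ]
        simp only [pmul, hk]
        rfl
    -- reduce to the case of `τ`-invariant coordinates
    have main : ∀ w ∈ W, (∀ p : P, G w p = 0) → ∃ q ∈ Z T 3, ∃ u ∈ W, w = q * (u * (τ * u * τ⁻¹)) := by
      intro w hw hw0
      obtain ⟨u', hu'W, hu'⟩ := hθs fun p => if p.2.2 = 0 then theta b c f w p else 0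
      obtain ⟨q, hq, e⟩ := exists_eq_mul_of_theta h F hf hw (mul_mem hu'W (hcj hu'W τ))
        (funext fun p => by
          have := hw0 p
          simp only [G, hτ] at this
          rw [htheta2 hu'W τ p, hu', hτ]
          obtain ⟨i, j, k⟩ := p
          simp only [pmul] at this ⊢
          revert this
          generalize theta b c f w (i, j, k) = r
          generalize theta b c f w _ = r'
          revert i j k r r'
          decide)
      exact ⟨q, hq, u', hu'W, e⟩
    rcases zmod_two_cases (G x 0) with h0 | h0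
    · obtain ⟨q, hq, u', hu', e⟩ := main x x.2 fun p => (hconst p).trans h0
      rw [e, sigma_mul h (h.Z3_le hq) (mul_mem hu' (hcj hu' τ)), sigma_phi h hq, hD hu',
        beta_phi h hq (mul_mem hu' (hcj hu' τ))]
      rfl
    · obtain ⟨q, hq, u', hu', e⟩ := main ((x : T) * y) (mul_mem x.2 hy) fun p => by
        rw [hG x.2 hy, hconst p, h0]
        simp only [G, hθy, hτ]
        revert p
        decide
      have hm := mul_mem hu' (hcj hu' τ)
      have hy2 := h.sq_mem_Z3 hy
      have ex : (x : T) = q * ((u' * (τ * u' * τ⁻¹)) * y⁻¹) := by rw [← mul_assoc, ← e]; group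
      rw [ex, sigma_mul h (h.Z3_le hq) (mul_mem hm (inv_mem hy)), sigma_phi h hq,
        beta_phi h hq (mul_mem hm (inv_mem hy)), zero_add, add_zero,
        sigma_mul h hm (inv_mem hy), hD hu', zero_add]
      have hsy : sigma y⁻¹ = 0 := by
        show chi (y⁻¹ * y⁻¹) = 0
        rw [← mul_inv_rev, h.inv_Z3 hy2]
        exact hσy
      rw [hsy, zero_add, beta_symm h hm (inv_mem hy)]
      unfold beta
      rw [comm_inv_left h hy hm]
      show beta y (u' * (τ * u' * τ⁻¹)) = 0
      rw [beta_symm h hy hm, hβy hu']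

end Cfsg.Agent.RuSylow
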