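import Cfsg.Agent.Lib.RuSylow.Basic

/-!
The Rudvalis-type 2-groups: `Z₃ = W' = Φ(W)` is elementary of order 8, the action of `T/W` on it
is the full unitriangular group, and the squaring map of `W` modulo `Z₂` as a quadratic map.
-/

namespace Cfsg.Agent.RuSylow

open scoped commutatorElement

variable {T : Type*} [Group T] [Finite T] {W : Subgroup T}

namespace Hyp

theorem Z3_le (h : Hyp T W) : Z T 3 ≤ W := by
  obtain ⟨z, b, c, F⟩ := h.exists_frame
  obtain ⟨-, -, -, hΦ, -⟩ := main_counts h F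
  exact hΦ ▸ Subgroup.map_subtype_le _

theorem phi_eq_Z3 (h : Hyp T W) : (frattini ↥W).map W.subtype = Z T 3 := by
  obtain ⟨z, b, c, F⟩ := h.exists_frame
  exact (main_counts h F).2.2.2.1

theorem card_W (h : Hyp T W) : Nat.card W = 2 ^ 11 := by
  obtain ⟨z, b, c, F⟩ := h.exists_frame
  exact (main_counts h F).2.2.1

theorem index_W (h : Hyp T W) : W.index = 8 := by
  obtain ⟨z, b, c, F⟩ := h.exists_frame
  exact (main_counts h F).2.1

theorem sq_mem_Z3 (h : Hyp T W) {x : T} (hx : x ∈ W) : x * x ∈ Z T 3 :=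
  h.phi_eq_Z3 ▸ h.sq_mem_phi hx

theorem comm_mem_Z3 (h : Hyp T W) {x y : T} (hx : x ∈ W) (hy : y ∈ W) : ⁅x, y⁆ ∈ Z T 3 :=
  h.phi_eq_Z3 ▸ h.comm_mem_phi hx hy

/-- No subgroup of index at most 8 in `W` has all its squares in a subgroup missing an element of
`Z₃` that it contains. -/
theorem no_square_subgroup (h : Hyp T W) (I M : Subgroup T) (hMW : M ≤ W)
    (hidx : M.relIndex W ≤ 8) {c : T} (hc : c ∈ Z T 3) (hcM : c ∈ M) (hcI : c ∉ I)
    (hI : ∀ x ∈ M, x * x ∈ I) : False := by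
  have hM : IsPGroup 2 M := h.hT.to_subgroup M
  have hle : frattini ↥M ≤ I.subgroupOf M := by
    refine PGroup.frattini_le (p := 2) ?_ fun x => ?_
    · rw [commutator_def, Subgroup.commutator_le]
      intro x _ y _
      rw [Subgroup.mem_subgroupOf]
      have h3 := mul_mem (mul_mem (hI x x.2) (hI _ (mul_mem (inv_mem x.2) y.2)))
        (inv_mem (hI y y.2))
      convert h3 using 1
      simp only [commutatorElement_def, Subgroup.coe_mul, Subgroup.coe_inv]
      group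
    · rw [Subgroup.mem_subgroupOf, pow_two]
      exact hI x x.2
  obtain ⟨U, hU, hcU⟩ : ∃ U : Subgroup M, IsCoatom U ∧ (⟨c, hcM⟩ : M) ∉ U := by
    by_contra hn
    push Not at hn
    have : (⟨c, hcM⟩ : M) ∈ frattini ↥M :=
      Subgroup.mem_iInf.mpr fun U => Subgroup.mem_iInf.mpr fun hU => hn U hU
    exact hcI (hle this)
  have h2 := PGroup.index_of_isCoatom hM hU
  have hUM : (U.map M.subtype).relIndex M = 2 := by
    rw [Subgroup.relIndex, Subgroup.subgroupOf, Subgroup.comap_map_eq_self_of_injective M.subtype_injective, h2]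
  have hUW : (U.map M.subtype).relIndex W ≤ 16 := by
    rw [← Subgroup.relIndex_mul_relIndex _ M W (Subgroup.map_subtype_le _) hMW, hUM]
    omega
  have hle2 := h.le_of_index ((U.map M.subtype).subgroupOf W) hUW
  rw [← h.phi_eq_Z3] at hc
  obtain ⟨u, hu, hue⟩ := hc
  obtain ⟨u', hu', hue'⟩ := Subgroup.mem_subgroupOf.mp (hle2 hu)
  exact hcU ((show u' = ⟨c, hcM⟩ from Subtype.ext (hue'.trans hue)) ▸ hu')

theorem commute_Z3 (h : Hyp T W) {u w : T} (hu : u ∈ Z T 3) (hw : w ∈ W) : u * w = w * u :=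
  h.commute_W le_rfl hu hw

theorem comm_mul_self (h : Hyp T W) {x y : T} (hx : x ∈ W) (hy : y ∈ W) :
    ⁅x, y⁆ * ⁅x, y⁆ = 1 := by
  have hu : ⁅x, y⁆ * x = x * ⁅x, y⁆ := h.commute_Z3 (h.comm_mem_Z3 hx hy) hx
  have hq : x * x * y = y * (x * x) := h.commute_Z3 (h.sq_mem_Z3 hx) hy
  calc ⁅x, y⁆ * ⁅x, y⁆ = (x * ⁅x, y⁆ * x⁻¹) * ⁅x, y⁆ := by rw [← hu, mul_inv_cancel_right]
    _ = x * x * y * (x * x)⁻¹ * y⁻¹ := by rw [commutatorElement_def]; group
    _ = 1 := by rw [hq, mul_inv_cancel_right, mul_inv_cancel]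

theorem map_commutator_W (h : Hyp T W) : (commutator ↥W).map W.subtype = Z T 3 := by
  classical
  haveI := h.normal_W
  have hle : (commutator ↥W).map W.subtype ≤ Z T 3 :=
    h.phi_eq_Z3 ▸ Subgroup.map_mono (PGroup.commutator_le_frattini (h.hT.to_subgroup W))
  by_contra hne
  obtain ⟨i, hi⟩ := PGroup.card_eq_pow h.hT ((commutator ↥W).map W.subtype)
  have hlt := PGroup.mul_card_le_card h.hT (lt_of_le_of_ne hle hne)
  rw [h.card_Z (by norm_num)] at hlt
  have hle2 : (commutator ↥W).map W.subtype ≤ Z T 2 :=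
    le_ucs_of_card_le h.hT 2 _ inferInstance (by omega)
  have hW' : ∀ {x y : T}, x ∈ W → y ∈ W → ⁅x, y⁆ ∈ Z T 2 := fun {x y} hx hy => by
    refine hle2 ⟨⁅(⟨x, hx⟩ : W), ⟨y, hy⟩⁆, Subgroup.commutator_mem_commutator
      (Subgroup.mem_top _) (Subgroup.mem_top _), ?_⟩
    simp [commutatorElement_def]
  let M : Subgroup T :=
    { carrier := {x | x ∈ W ∧ x * x ∈ Z T 2}
      one_mem' := ⟨one_mem _, by simp [one_mem]⟩
      mul_mem' := fun {a a'} ha ha' => ⟨mul_mem ha.1 ha'.1, by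
        have h3 := mul_mem (mul_mem ha.2 (hW' (inv_mem ha.1) ha'.1)) ha'.2
        rw [commutatorElement_def] at h3
        convert h3 using 1
        group⟩
      inv_mem' := fun {a} ha => ⟨inv_mem ha.1, by rw [← mul_inv_rev]; exact inv_mem ha.2⟩ }
  have hidx : M.relIndex W ≤ 8 := by
    have hkey : ∀ x y : W, (x : T) ∉ M → (y : T) ∉ M → (x : T)⁻¹ * y ∈ M := by
      intro x y hx hy
      have hxy : (x : T)⁻¹ * (x : T)⁻¹ * ((y : T) * y) ∈ Z T 2 := by
        have hc := h.card_Z (i := 2) (by norm_num)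
        rw [← mul_inv_rev]
        have h1 := mul_inv_mem_of_card (K := Z T 2) (L := Z T 3)
          (Subgroup.upperCentralSeries_mono T (by norm_num))
          (by rw [h.card_Z (by norm_num), hc]; norm_num)
          (h.sq_mem_Z3 x.2) (fun e => hx ⟨x.2, e⟩) (h.sq_mem_Z3 y.2) (fun e => hy ⟨y.2, e⟩)
        rwa [h.commute_Z3 (inv_mem (h.sq_mem_Z3 x.2)) (mul_mem y.2 y.2)]
      refine ⟨mul_mem (inv_mem x.2) y.2, ?_⟩
      have h5 : ⁅(y : T), (x : T)⁻¹⁆ ∈ Z T 2 := hW' y.2 (inv_mem x.2)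
      have e : (x : T)⁻¹ * y * ((x : T)⁻¹ * y)
          = (x : T)⁻¹ * ⁅(y : T), (x : T)⁻¹⁆ * (x : T) * ((x : T)⁻¹ * (x : T)⁻¹ * ((y : T) * y)) := by
        rw [commutatorElement_def]; group
      rw [e]
      refine mul_mem ?_ hxy
      simpa using (inferInstance : (Z T 2).Normal).conj_mem _ h5 (x : T)⁻¹
    refine le_trans ?_ (show 2 ≤ 8 by norm_num)
    show (M.subgroupOf W).index ≤ 2
    refine le_trans (Nat.card_le_card_of_injective
      (fun q : W ⧸ M.subgroupOf W => decide ((q.out : T) ∈ M)) fun p q hpq => ?_) (by simp)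
    rw [← QuotientGroup.out_eq' p, ← QuotientGroup.out_eq' q, QuotientGroup.eq,
      Subgroup.mem_subgroupOf, Subgroup.coe_mul, Subgroup.coe_inv]
    simp only [decide_eq_decide] at hpq
    by_cases hp : ((p.out : W) : T) ∈ M
    · exact mul_mem (inv_mem hp) (hpq.mp hp)
    · exact hkey _ _ hp (fun e => hp (hpq.mpr e))
  obtain ⟨z, b, c, F⟩ := h.exists_frame
  exact h.no_square_subgroup (Z T 2) M (fun x hx => hx.1) hidx F.hc
    ⟨h.Z3_le F.hc, h.sq_mem_Z (by norm_num) F.hc⟩ F.hc2 fun x hx => hx.2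

theorem mul_self_Z3 (h : Hyp T W) {u : T} (hu : u ∈ Z T 3) : u * u = 1 := by
  rw [← h.map_commutator_W] at hu
  obtain ⟨w, hw, rfl⟩ := hu
  suffices key : ((w : T) ∈ Z T 3) ∧ (w : T) * w = 1 from key.2
  rw [SetLike.mem_coe, commutator_eq_closure] at hw
  induction hw using Subgroup.closure_induction with
  | mem x hx =>
    obtain ⟨p, q, rfl⟩ := hx
    have e : ((⁅p, q⁆ : W) : T) = ⁅(p : T), (q : T)⁆ := by simp [commutatorElement_def]
    exact ⟨e ▸ h.comm_mem_Z3 p.2 q.2, by rw [e]; exact h.comm_mul_self p.2 q.2⟩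
  | one => exact ⟨one_mem _, one_mul 1⟩
  | mul x y _ _ h1 h2 =>
    refine ⟨mul_mem h1.1 h2.1, ?_⟩
    have hc : (y : T) * x = x * y := h.commute_Z3 h2.1 x.2
    simp only [Subgroup.coe_mul]
    calc (x : T) * y * (x * y) = x * ((y : T) * x) * y := by group
      _ = (x * x) * (y * y) := by rw [hc]; group
      _ = 1 := by rw [h1.2, h2.2, one_mul]
  | inv x _ h1 =>
    refine ⟨inv_mem h1.1, ?_⟩
    simp only [Subgroup.coe_inv]
    rw [← mul_inv_rev, h1.2, inv_one]

theorem inv_Z3 (h : Hyp T W) {u : T} (hu : u ∈ Z T 3) : u⁻¹ = u :=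
  inv_eq_of_mul_eq_one_right (h.mul_self_Z3 hu)

end Hyp

theorem zmod_two_cases : ∀ i : ZMod 2, i = 0 ∨ i = 1 := by decide

theorem pow_val_add {u : T} (hu : u * u = 1) (i j : ZMod 2) :
    u ^ (i + j).val = u ^ i.val * u ^ j.val := by
  have h11 : (1 : ZMod 2) + 1 = 0 := rfl
  rcases zmod_two_cases i with rfl | rfl <;> rcases zmod_two_cases j with rfl | rfl <;>
    simp [h11, ZMod.val_one, hu]

theorem Frame.z_comm {z b c : T} (F : Frame T z b c) (t : T) : t * z = z * t := by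
  have hz : z ∈ Subgroup.center T := by rw [← Subgroup.upperCentralSeries_one]; exact F.hz
  exact Subgroup.mem_center_iff.mp hz t

theorem iota_eq_of (h : Hyp T W) {z b c : T} (F : Frame T z b c) {t : T} {p : P}
    (h1 : t * b * t⁻¹ = z ^ p.1.val * b) (h2 : t * c * t⁻¹ = z ^ p.2.1.val * b ^ p.2.2.val * c) :
    iota b c t = p := by
  obtain ⟨k1, k2⟩ := iota_spec h F t
  rw [h1, mul_left_inj] at k1
  rw [h2, mul_left_inj] at k2
  generalize iota b c t = q at k1 k2 ⊢
  obtain ⟨i, j, k⟩ := p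
  obtain ⟨i', j', k'⟩ := q
  simp only at k1 k2
  have hb0 : b ∉ Z T 1 := F.hb1
  have hzb : z ≠ b := fun e => hb0 (e ▸ F.hz)
  have hzb1 : z * b ≠ 1 := fun e => hb0 ((eq_inv_of_mul_eq_one_right e) ▸ inv_mem F.hz)
  have hb1' : b ≠ 1 := fun e => hb0 (e ▸ one_mem _)
  have hi : i = i' := by
    rcases zmod_two_cases i with rfl | rfl <;> rcases zmod_two_cases i' with rfl | rfl <;>
      simp [ZMod.val_one, F.hz1, F.hz1.symm] at k1 ⊢
  subst hi
  have : j = j' ∧ k = k' := by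
    rcases zmod_two_cases j with rfl | rfl <;> rcases zmod_two_cases k with rfl | rfl <;>
      rcases zmod_two_cases j' with rfl | rfl <;> rcases zmod_two_cases k' with rfl | rfl <;>
      simp [ZMod.val_one, F.hz1, F.hz1.symm, hzb, hzb.symm, hzb1, hzb1.symm, hb1', hb1'.symm] at k2 ⊢
  rw [this.1, this.2]

theorem iota_mul (h : Hyp T W) {z b c : T} (F : Frame T z b c) (s t : T) :
    iota b c (s * t) = pmul (iota b c s) (iota b c t) := by
  obtain ⟨s1, s2⟩ := iota_spec h F s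
  obtain ⟨t1, t2⟩ := iota_spec h F t
  have hz2 : z * z = 1 := h.mul_self_Z3 (Subgroup.upperCentralSeries_mono T (by norm_num) F.hz)
  have hb2 : b * b = 1 := h.mul_self_Z3 (Subgroup.upperCentralSeries_mono T (by norm_num) F.hb)
  have hzp : ∀ (n : ℕ) (x : T), x * z ^ n = z ^ n * x := fun n x =>
    ((show Commute x z from F.z_comm x).pow_right n).eq
  refine iota_eq_of h F ?_ ?_
  · calc s * t * b * (s * t)⁻¹ = s * (t * b * t⁻¹) * s⁻¹ := by group
      _ = s * (z ^ (iota b c t).1.val * b) * s⁻¹ := by rw [t1]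
      _ = z ^ (iota b c t).1.val * (s * b * s⁻¹) := by rw [← mul_assoc, hzp]; group
      _ = z ^ (iota b c t).1.val * (z ^ (iota b c s).1.val * b) := by rw [s1]
      _ = _ := by
        rw [← mul_assoc, ← pow_val_add hz2]
        simp only [pmul, add_comm]
  · generalize iota b c s = p at s1 s2 ⊢
    generalize iota b c t = q at t1 t2 ⊢
    obtain ⟨i, j, k⟩ := p
    obtain ⟨i', j', k'⟩ := q
    simp only [pmul] at *
    have hbk : (z ^ i.val * b) ^ k'.val = z ^ (i * k').val * b ^ k'.val := by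
      rcases zmod_two_cases k' with rfl | rfl <;> simp [ZMod.val_one]
    calc s * t * c * (s * t)⁻¹ = s * (t * c * t⁻¹) * s⁻¹ := by group
      _ = s * (z ^ j'.val * b ^ k'.val * c) * s⁻¹ := by rw [t2]
      _ = z ^ j'.val * (s * b * s⁻¹) ^ k'.val * (s * c * s⁻¹) := by
        rw [conj_pow, show s * (z ^ j'.val * b ^ k'.val * c) * s⁻¹
          = s * z ^ j'.val * b ^ k'.val * c * s⁻¹ by group, hzp]
        group
      _ = z ^ j'.val * (z ^ (i * k').val * b ^ k'.val) * (z ^ j.val * b ^ k.val * c) := by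
        rw [s1, s2, hbk]
      _ = z ^ j'.val * z ^ (i * k').val * (b ^ k'.val * z ^ j.val) * b ^ k.val * c := by group
      _ = (z ^ j'.val * z ^ (i * k').val * z ^ j.val) * (b ^ k'.val * b ^ k.val) * c := by
        rw [hzp j.val (b ^ k'.val)]; simp only [mul_assoc]
      _ = _ := by
        rw [← pow_val_add hb2, ← pow_val_add hz2, ← pow_val_add hz2]
        congr 3 <;> ring_nf

theorem iota_one (h : Hyp T W) {z b c : T} (F : Frame T z b c) : iota b c 1 = 0 :=
  iota_eq_of h F (by simp) (by simp)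

theorem mem_W_iff (h : Hyp T W) {z b c : T} (F : Frame T z b c) (t : T) :
    t ∈ W ↔ iota b c t = 0 := by
  rw [← iota_one h F, iota_eq_iff h F]; simp

end Cfsg.Agent.RuSylow
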