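import Cfsg.Agent.Lib.RuSylow.Centre

/-!
The Rudvalis-type 2-groups: `|Z(W)| = 8` and `T/W ≅ D₈`; odd automorphisms are trivial; a
subgroup isomorphic to `W` equals `W`.
-/

namespace Cfsg.Agent.RuSylow

open scoped commutatorElement

variable {T : Type*} [Group T] [Finite T] {W : Subgroup T}

/-- A fixed point, a functional, and the fact that the fixed point lies in `Z₄`. -/
theorem exists_functional_Z4 (h : Hyp T W) :
    ∃ (f : T → ZMod 2) (v : T), v ∈ Z T 4 ∧ Z T 4 ≤ W ∧ Functional W f v := by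
  obtain ⟨k, f, v, hk, -, hcard, hv, hle, hf⟩ := exists_functional h
  obtain ⟨z, b, c, F⟩ := h.exists_frame
  have h8 := (main_counts h F).2.2.2.2.1
  obtain rfl : k = 3 := Nat.pow_right_injective le_rfl (hcard.symm.trans (h8.trans (by norm_num : 8 = 2 ^ 3)))
  exact ⟨f, v, hv, hle, hf⟩

theorem map_center_W (h : Hyp T W) : (Subgroup.center ↥W).map W.subtype = Z T 3 := by
  haveI := h.normal_W
  have hle : Z T 3 ≤ (Subgroup.center ↥W).map W.subtype := fun u hu =>
    ⟨⟨u, h.Z3_le hu⟩, Subgroup.mem_center_iff.mpr fun y => Subtype.ext (h.commute_Z3 hu y.2).symm, rfl⟩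
  by_contra hne
  obtain ⟨L, hL, hNL, hLM, hLc⟩ := PGroup.exists_normal_step h.hT (Z T 3)
    ((Subgroup.center ↥W).map W.subtype) (lt_of_le_of_ne hle (Ne.symm hne))
  haveI := hL
  have hLZ : L = Z T 4 :=
    h.eq_Z_of_card le_rfl L (by rw [hLc, h.card_Z (by norm_num)]; norm_num)
  obtain ⟨f, v, hv, -, hf⟩ := exists_functional_Z4 h
  obtain ⟨v', hv', e⟩ := hLM (hLZ ▸ hv)
  refine centre_aux h hf fun y hy => ?_
  have := congrArg Subtype.val (Subgroup.mem_center_iff.mp hv' ⟨y, hy⟩)
  simp only [Subgroup.coe_mul] at this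
  rw [show ((v' : W) : T) = v from e] at this
  exact this.symm

/-- `P` as the dihedral group of order 8. -/
def toDihedral (p : P) : DihedralGroup 4 :=
  if p.1 + p.2.2 = 0 then (if p.2.2 = 0 then .r (if p.2.1 = 0 then 0 else 2) else
    .r (if p.2.1 = 0 then 1 else 3))
  else (if p.2.2 = 0 then .sr (if p.2.1 = 0 then 0 else 2) else
    .sr (if p.2.1 = 0 then 3 else 1))

theorem toDihedral_mul : ∀ p q : P, toDihedral (pmul p q) = toDihedral p * toDihedral q := by
  decide

theorem toDihedral_bijective : Function.Bijective toDihedral := by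
  decide

theorem nonempty_quotient_equiv (h : Hyp T W) :
    ∃ (_ : W.Normal), Nonempty (T ⧸ W ≃* DihedralGroup 4) := by
  haveI := h.normal_W
  refine ⟨inferInstance, ?_⟩
  obtain ⟨z, b, c, F⟩ := h.exists_frame
  obtain ⟨-, -, -, -, -, hsurj, -⟩ := main_counts h F
  let φ : T →* DihedralGroup 4 := MonoidHom.mk' (fun t => toDihedral (iota b c t))
    fun s t => by rw [iota_mul h F, toDihedral_mul]
  have hker : φ.ker = W := by
    ext t
    rw [MonoidHom.mem_ker, mem_W_iff h F]
    show toDihedral (iota b c t) = 1 ↔ _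
    rw [show (1 : DihedralGroup 4) = toDihedral 0 from rfl]
    exact ⟨fun e => toDihedral_bijective.1 e, fun e => by rw [e]⟩
  have hs : Function.Surjective φ := fun d => by
    obtain ⟨p, rfl⟩ := toDihedral_bijective.2 d
    obtain ⟨t, rfl⟩ := hsurj p
    exact ⟨t, rfl⟩
  exact ⟨(QuotientGroup.quotientMulEquivOfEq hker.symm).trans
    (QuotientGroup.quotientKerEquivOfSurjective φ hs)⟩

/-- Summary of the structure. -/
theorem structure_T (h : Hyp T W) :
    Nat.card T = 2 ^ 14 ∧
      (commutator ↥W).map W.subtype = Z T 3 ∧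
      (frattini ↥W).map W.subtype = Z T 3 ∧
      Nat.card ↥(Subgroup.center ↥W) = 8 ∧
      Nat.card ↥(Z T 3) = 8 ∧ (∀ z ∈ Z T 3, z ^ 2 = 1) ∧
      (∃ (_ : W.Normal), Nonempty (T ⧸ W ≃* DihedralGroup 4)) ∧
      Nat.card (↥W ⧸ commutator ↥W) = 2 ^ 8 ∧ (∀ x : ↥W ⧸ commutator ↥W, x ^ 2 = 1) := by
  obtain ⟨z, b, c, F⟩ := h.exists_frame
  have h3 : Nat.card ↥(Z T 3) = 8 := by rw [h.card_Z (by norm_num)]; norm_num
  have hmap : ∀ H : Subgroup W, H.map W.subtype = Z T 3 → Nat.card H = 8 := fun H e =>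
    (Nat.card_congr (H.equivMapOfInjective _ W.subtype_injective).toEquiv).trans (e ▸ h3)
  refine ⟨(main_counts h F).1, h.map_commutator_W, h.phi_eq_Z3, hmap _ (map_center_W h), h3,
    fun z hz => by rw [pow_two]; exact h.mul_self_Z3 hz, nonempty_quotient_equiv h, ?_, fun x => ?_⟩
  · have h1 := Subgroup.card_eq_card_quotient_mul_card_subgroup (commutator ↥W)
    rw [h.card_W, hmap _ h.map_commutator_W] at h1
    omega
  · induction x using QuotientGroup.induction_on with
    | _ x =>
      rw [← QuotientGroup.mk_pow, QuotientGroup.eq_one_iff]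
      have hx : (x : T) * x ∈ (commutator ↥W).map W.subtype := h.map_commutator_W ▸ h.sq_mem_Z3 x.2
      obtain ⟨u, hu, e⟩ := hx
      rw [show x ^ 2 = u from Subtype.ext (by rw [pow_two]; exact e.symm)]
      exact hu

/-- An automorphism of odd order is trivial. -/
theorem mulAut_eq_one (h : Hyp T W) (φ : MulAut T) (hodd : Odd (orderOf φ)) : φ = 1 := by
  classical
  haveI := h.normal_W
  obtain ⟨z, b, c, F⟩ := h.exists_frame
  obtain ⟨m, hm, hφm⟩ : ∃ m, Odd m ∧ φ ^ m = 1 := ⟨_, hodd, pow_orderOf_eq_one φ⟩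
  -- translating by a fixed element of 2-power order is trivial
  have step : ∀ x u : T, φ u = u → φ x = u * x → u = 1 := by
    intro x u hu hx
    have hk : ∀ k : ℕ, (φ ^ k) x = u ^ k * x := by
      intro k
      induction k with
      | zero => simp
      | succ k ih => rw [pow_succ', MulAut.mul_apply, ih, map_mul, map_pow, hu, hx, pow_succ, mul_assoc]
    have h1 : u ^ m = 1 := by
      have h0 := hk m
      rw [hφm, MulAut.one_apply, eq_comm, mul_eq_right] at h0
      exact h0
    obtain ⟨j, hj⟩ := h.hT u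
    have hcop : Nat.gcd m (2 ^ j) = 1 :=
      Nat.Coprime.gcd_eq_one ((Nat.coprime_two_right.mpr hm).pow_right j)
    have h2 := pow_gcd_eq_one.mpr ⟨h1, hj⟩
    rwa [hcop, pow_one] at h2
  have hZ : ∀ (i : ℕ) (x : T), φ x ∈ Z T i ↔ x ∈ Z T i := fun i x => by
    have := Subgroup.characteristic_iff_comap_eq.mp
      (inferInstance : (Z T i).Characteristic) φ
    conv_rhs => rw [← this]
    rfl
  have hz : φ z = z := by
    rcases h.eq_one_or_eq F ((hZ 1 z).mpr F.hz) with e | e
    · exact absurd ((map_eq_one_iff φ φ.injective).mp e) F.hz1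
    · exact e
  have hb : φ b = b := by
    have hmem := mul_inv_mem_of_card (Subgroup.upperCentralSeries_mono T (by norm_num : 1 ≤ 2))
      (by rw [h.card_Z (by norm_num), h.card_Z (by norm_num)]; norm_num) F.hb F.hb1
      ((hZ 2 b).mpr F.hb) (fun e => F.hb1 ((hZ 1 b).mp e))
    rcases h.eq_one_or_eq F hmem with e | e
    · exact mul_inv_eq_one.mp e
    · exact absurd (step b z hz (mul_inv_eq_iff_eq_mul.mp e)) F.hz1
  have hZ2 : ∀ x ∈ Z T 2, φ x = x := by
    intro x hx
    have h1 : ∀ y ∈ Z T 1, φ y = y := fun y hy => by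
      rcases h.eq_one_or_eq F hy with rfl | rfl
      · exact map_one φ
      · exact hz
    rcases h.mem_Z_or (by norm_num) F.hb F.hb1 hx with e | e
    · exact h1 x e
    · have := h1 _ e
      rwa [map_mul, map_inv, hb, mul_left_inj] at this
  have hc : φ c = c := by
    have hmem := mul_inv_mem_of_card (Subgroup.upperCentralSeries_mono T (by norm_num : 2 ≤ 3))
      (by rw [h.card_Z (by norm_num), h.card_Z (by norm_num)]; norm_num) F.hc F.hc2
      ((hZ 3 c).mpr F.hc) (fun e => F.hc2 ((hZ 2 c).mp e))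
    have hu := hZ2 _ hmem
    have := step c (φ c * c⁻¹) hu (by rw [inv_mul_cancel_right])
    exact mul_inv_eq_one.mp this
  have hZ3 : ∀ x ∈ Z T 3, φ x = x := by
    intro x hx
    rcases h.mem_Z_or (by norm_num) F.hc F.hc2 hx with e | e
    · exact hZ2 x e
    · have := hZ2 _ e
      rwa [map_mul, map_inv, hc, mul_left_inj] at this
  have hW : ∀ x : T, φ x ∈ W ↔ x ∈ W := by
    intro x
    rw [h.eq_W, Subgroup.mem_centralizer_iff, Subgroup.mem_centralizer_iff]
    constructor
    · intro e y hy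
      refine φ.injective ?_
      rw [map_mul, map_mul, hZ3 y hy]
      exact e y hy
    · intro e y hy
      conv_lhs => rw [← hZ3 y hy]
      conv_rhs => rw [← hZ3 y hy]
      rw [← map_mul, ← map_mul, e y hy]
  have hiota : ∀ t : T, iota b c (φ t) = iota b c t := by
    intro t
    obtain ⟨h1, h2⟩ := iota_spec h F t
    refine iota_eq_of h F ?_ ?_
    · have := congrArg φ h1
      simpa [map_mul, map_inv, map_pow, hz, hb] using this
    · have := congrArg φ h2
      simpa [map_mul, map_inv, map_pow, hz, hb, hc] using this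
  have hWpow : ∀ (i : ℕ) (x : T), x ∈ W → (φ ^ i) x ∈ W := by
    intro i
    induction i with
    | zero => intro x hx; simpa using hx
    | succ i ih => intro x hx; rw [pow_succ', MulAut.mul_apply, hW]; exact ih x hx
  -- a functional invariant under `φ`
  obtain ⟨f, v, -, -, hf⟩ := exists_functional_Z4 h
  have hfix : ∀ i : ℕ, ∀ q ∈ Z T 3, (φ ^ i) q = q := by
    intro i
    induction i with
    | zero => simp
    | succ i ih => intro q hq; rw [pow_succ', MulAut.mul_apply, ih q hq, hZ3 q hq]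
  have hPhi := h.phi_eq_Z3
  have hφv : φ v * v⁻¹ ∈ Z T 3 := by
    have hvK : ∀ t : T, t * v * t⁻¹ * v⁻¹ ∈ Z T 3 := fun t => hPhi ▸ hf.comm_v t
    have hv4 : v ∈ Z T 4 := by
      rw [Subgroup.mem_upperCentralSeries_succ_iff]
      intro t
      have h1 := inv_mem (hvK t)
      rwa [← commutatorElement_def, commutatorElement_inv] at h1
    have hv3 : v ∉ Z T 3 := fun e => one_ne_zero (hf.apply_v.symm.trans (hf.phi v (hPhi.symm ▸ e)))
    exact mul_inv_mem_of_card (Subgroup.upperCentralSeries_mono T (by norm_num : 3 ≤ 4))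
      (by rw [h.card_Z le_rfl, h.card_Z (by norm_num)]; norm_num) hv4 hv3
      ((hZ 4 v).mpr hv4) (fun e => hv3 ((hZ 3 v).mp e))
  let g : T → ZMod 2 := fun x => ∑ i ∈ Finset.range m, f ((φ ^ i) x)
  have hg : Functional W g v := by
    refine ⟨fun x hx y hy => ?_, fun x hx => ?_, hf.hv, ?_, hf.comm_v⟩
    · simp only [g, map_mul, ← Finset.sum_add_distrib]
      exact Finset.sum_congr rfl fun i _ => hf.map_mul _ (hWpow i x hx) _ (hWpow i y hy)
    · simp only [g]
      exact Finset.sum_eq_zero fun i _ => by rw [hfix i x (hPhi ▸ hx)]; exact hf.phi x hx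
    · have hall : ∀ i : ℕ, f ((φ ^ i) v) = 1 := by
        intro i
        have hsum : ∀ j : ℕ, ∃ q ∈ Z T 3, (φ ^ j) v = q * v := by
          intro j
          induction j with
          | zero => exact ⟨1, one_mem _, by simp⟩
          | succ j ih =>
            obtain ⟨q, hq, e⟩ := ih
            refine ⟨q * (φ v * v⁻¹), mul_mem hq hφv, ?_⟩
            rw [pow_succ', MulAut.mul_apply, e, map_mul, hZ3 q hq]
            group
        obtain ⟨q, hq, e⟩ := hsum i
        have hqW : q ∈ (frattini ↥W).map W.subtype := hPhi.symm ▸ hq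
        rw [e, hf.map_mul _ (h.Z3_le hq) _ hf.hv, hf.phi q hqW, zero_add, hf.apply_v]
      simp only [g, hall, Finset.sum_const, Finset.card_range, nsmul_eq_mul, mul_one]
      exact (ZMod.natCast_eq_one_iff_odd).mpr hm
  have hginv : ∀ x : T, g (φ x) = g x := by
    intro x
    have e1 : ∀ i : ℕ, (φ ^ i) (φ x) = (φ ^ (i + 1)) x := fun i => by
      rw [pow_succ, MulAut.mul_apply]
    simp only [g, e1]
    have h1 := Finset.sum_range_succ (fun i => f ((φ ^ i) x)) m
    have h2 := Finset.sum_range_succ' (fun i => f ((φ ^ i) x)) m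
    rw [h1, hφm, pow_zero] at h2
    exact (add_right_cancel h2).symm
  have hWfix : ∀ x ∈ W, φ x = x := by
    intro x hx
    have hmem : φ x * x⁻¹ ∈ (frattini ↥W).map W.subtype := by
      refine mem_phi_of_forall h hg (mul_mem ((hW x).mpr hx) (inv_mem hx)) fun t => ?_
      have hφx := (hW x).mpr hx
      have hn : ∀ {y : T}, y ∈ W → t * y * t⁻¹ ∈ W := fun {y} hy =>
        (inferInstance : W.Normal).conj_mem y hy t
      rw [show t * (φ x * x⁻¹) * t⁻¹ = (t * φ x * t⁻¹) * (t * x * t⁻¹)⁻¹ by group,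
        hg.map_mul _ (hn hφx) _ (inv_mem (hn hx)), hg.map_inv (hn hx)]
      have hst : g (t * φ x * t⁻¹) = g (t * x * t⁻¹) := by
        have hrw : t * φ x * t⁻¹ = φ (φ.symm t * x * (φ.symm t)⁻¹) := by
          rw [map_mul, map_mul, map_inv, MulEquiv.apply_symm_apply]
        rw [hrw, hginv]
        refine hg.map_conj h F ?_ hx
        rw [← hiota (φ.symm t), MulEquiv.apply_symm_apply]
      rw [hst]
      exact zmod_two_add_self _
    rw [hPhi] at hmem
    exact mul_inv_eq_one.mp (step x _ (hZ3 _ hmem) (by rw [inv_mul_cancel_right]))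
  refine MulEquiv.ext fun t => ?_
  rw [MulAut.one_apply]
  have hmem : φ t * t⁻¹ ∈ W := by
    have := (iota_eq_iff h F t (φ t)).mp (hiota t).symm
    have h' := (inferInstance : W.Normal).conj_mem _ (inv_mem this) t
    convert h' using 1
    group
  exact mul_inv_eq_one.mp (step t _ (hWfix _ hmem) (by rw [inv_mul_cancel_right]))

/-- An injective copy of `W` in `T` is `W`. -/
theorem range_eq_W (h : Hyp T W) (ψ : W →* T) (hψ : Function.Injective ψ) : ψ.range = W := by
  haveI := h.normal_W
  have hidx : (W.comap ψ).index ≤ 8 := by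
    rw [Subgroup.index_comap, ← h.index_W, ← Subgroup.relIndex_top_right]
    exact Subgroup.relIndex_le_of_le_right le_top (by rw [Subgroup.relIndex_top_right, h.index_W]; norm_num)
  have hle := h.le_of_index (W.comap ψ) (hidx.trans (by norm_num))
  let Z' : Subgroup T := (frattini ↥W).map ψ
  have hZW : Z' ≤ W := Subgroup.map_le_iff_le_comap.mpr hle
  have hc' : Nat.card Z' = 8 := by
    obtain ⟨z, b, c, F⟩ := h.exists_frame
    rw [← (main_counts h F).2.2.2.2.1]
    exact (Nat.card_congr ((frattini ↥W).equivMapOfInjective ψ hψ).toEquiv).symm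
  have hcomm : ∀ u ∈ Z', ∀ y ∈ ψ.range, u * y = y * u := by
    rintro _ ⟨u, hu, rfl⟩ _ ⟨y, rfl⟩
    have huZ : (u : T) ∈ Z T 3 := h.phi_eq_Z3 ▸ ⟨u, hu, rfl⟩
    rw [← map_mul, ← map_mul, show u * y = y * u from Subtype.ext (h.commute_Z3 huZ y.2)]
  have hsq : ∀ y ∈ ψ.range, y * y ∈ Z' := by
    rintro _ ⟨y, rfl⟩
    refine ⟨y * y, ?_, map_mul ψ y y⟩
    have := PGroup.pow_mem_frattini (h.hT.to_subgroup W) y
    rwa [pow_two] at this
  have hcW : Nat.card ψ.range = Nat.card W := (Nat.card_congr (MonoidHom.ofInjective hψ).toEquiv).symm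
  have hZ3le : Z T 3 ≤ Z' := by
    intro c hc
    by_contra hcI
    -- squares of `W ⊓ ψ(W)` lie in both copies of `Z₃`
    let M := W ⊓ ψ.range
    have hMr : M.relIndex ψ.range ≤ 8 := by
      rw [Subgroup.inf_relIndex_right, ← Subgroup.index_comap]; exact hidx
    have hM1 := Subgroup.relIndex_mul_index (inf_le_left : M ≤ W)
    have hM2 := Subgroup.relIndex_mul_index (inf_le_right : M ≤ ψ.range)
    have hr1 := ψ.range.card_mul_index
    have hr2 := W.card_mul_index
    have hidxe : ψ.range.index = W.index := by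
      rw [hcW, ← hr2] at hr1
      exact Nat.eq_of_mul_eq_mul_left Nat.card_pos hr1
    have hMW : M.relIndex W ≤ 8 := by
      rw [hidxe] at hM2
      have hpos : 0 < W.index := by rw [h.index_W]; norm_num
      rw [← hM1] at hM2
      exact (Nat.eq_of_mul_eq_mul_right hpos hM2) ▸ hMr
    by_cases hcM : c ∈ ψ.range
    · exact h.no_square_subgroup Z' M inf_le_left hMW hc ⟨h.Z3_le hc, hcM⟩ hcI
        fun x hx => hsq x hx.2
    · -- `Φ(W)` lies in every subgroup of index at most 16
      have h' := h.le_of_index (M.subgroupOf W) (hMW.trans (by norm_num))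
      rw [← h.phi_eq_Z3] at hc
      obtain ⟨u, hu, rfl⟩ := hc
      exact hcM (h' hu).2
  have heq : Z T 3 = Z' := Subgroup.eq_of_le_of_card_ge hZ3le (by rw [hc', h.card_Z (by norm_num)]; norm_num)
  refine Subgroup.eq_of_le_of_card_ge (fun y hy => ?_) (le_of_eq hcW.symm)
  have hh : ∀ u ∈ Z T 3, u * y = y * u := fun u hu => hcomm u (heq ▸ hu) y hy
  rw [h.eq_W, Subgroup.mem_centralizer_iff]
  exact hh

end Cfsg.Agent.RuSylow
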