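import Mathlib
import Cfsg.Agent.Lib.PGroup.Basic

/-!
Upper central series of a finite 2-group: normal subgroups of small order, and the case of a
series whose first terms grow by steps of order two.
-/

namespace Cfsg.Agent.RuSylow

open scoped commutatorElement

variable {T : Type*} [Group T] [Finite T]

instance fact_two : Fact (Nat.Prime 2) := ⟨Nat.prime_two⟩

theorem two_mul_card_le_ucs_succ (hT : IsPGroup 2 T) (i : ℕ)
    (h : Subgroup.upperCentralSeries T i ≠ ⊤) :
    2 * Nat.card (Subgroup.upperCentralSeries T i) ≤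
      Nat.card (Subgroup.upperCentralSeries T (i + 1)) := by
  let Z := Subgroup.upperCentralSeries T i
  have hle : Z ≤ Subgroup.upperCentralSeries T (i + 1) := Subgroup.upperCentralSeries_mono T (Nat.le_succ i)
  haveI : Nontrivial (T ⧸ Z) := QuotientGroup.nontrivial_iff.mpr h
  obtain ⟨q, hq, hq1⟩ : ∃ q ∈ Subgroup.center (T ⧸ Z), q ≠ 1 :=
    (Subgroup.nontrivial_iff_exists_ne_one _).mp (hT.to_quotient Z).center_nontrivial
  obtain ⟨x, rfl⟩ := QuotientGroup.mk_surjective q
  have hx : x ∈ Subgroup.upperCentralSeries T (i + 1) := by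
    rw [Subgroup.mem_upperCentralSeries_succ_iff]
    intro y
    rw [← QuotientGroup.eq_one_iff, ← QuotientGroup.mk'_apply, map_commutatorElement,
      commutatorElement_eq_one_iff_mul_comm]
    exact (Subgroup.mem_center_iff.mp hq _).symm
  have hne : Z < Subgroup.upperCentralSeries T (i + 1) :=
    lt_of_le_of_ne hle fun e => hq1 ((QuotientGroup.eq_one_iff x).mpr (e ▸ hx))
  exact Cfsg.Agent.PGroup.mul_card_le_card hT hne

/-- A normal subgroup of order at most `2 ^ k` lies in the `k`-th centre. -/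
theorem le_ucs_of_card_le (hT : IsPGroup 2 T) :
    ∀ (k : ℕ) (N : Subgroup T), N.Normal → Nat.card N ≤ 2 ^ k →
      N ≤ Subgroup.upperCentralSeries T k := by
  intro k
  induction k with
  | zero =>
    intro N _ hN
    have h1 : Nat.card N = 1 := le_antisymm (by simpa using hN) Nat.card_pos
    rw [Subgroup.card_eq_one.mp h1]
    exact bot_le
  | succ k ih =>
    intro N hN hc
    haveI := hN
    by_cases hb : N = ⊥
    · rw [hb]; exact bot_le
    have hlt := Cfsg.Agent.PGroup.commutator_top_lt hT N hb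
    have h2 := Cfsg.Agent.PGroup.mul_card_le_card hT hlt
    have h3 : Nat.card ↥⁅N, (⊤ : Subgroup T)⁆ ≤ 2 ^ k := by rw [pow_succ] at hc; omega
    intro x hx
    rw [Subgroup.mem_upperCentralSeries_succ_iff]
    intro y
    exact ih _ inferInstance h3 (Subgroup.commutator_mem_commutator hx (Subgroup.mem_top y))

/-- With at least `2 ^ 14` elements and `|Z₄| = 16`, the first four centres grow by steps of two. -/
theorem card_ucs (hT : IsPGroup 2 T) (ha : 2 ^ 14 ≤ Nat.card T)
    (hb : Nat.card ↥(Subgroup.upperCentralSeries T 4) = 16) :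
    ∀ i ≤ 4, Nat.card (Subgroup.upperCentralSeries T i) = 2 ^ i := by
  have hne : ∀ i ≤ 4, Subgroup.upperCentralSeries T i ≠ ⊤ := by
    intro i hi h
    have := Subgroup.card_le_of_le (Subgroup.upperCentralSeries_mono T hi)
    rw [h, hb, Subgroup.card_top] at this
    omega
  have h0 : Nat.card (Subgroup.upperCentralSeries T 0) = 1 := by
    rw [Subgroup.upperCentralSeries_zero]; exact Subgroup.card_bot
  have h1 := two_mul_card_le_ucs_succ hT 0 (hne 0 (by omega))
  have h2 := two_mul_card_le_ucs_succ hT 1 (hne 1 (by omega))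
  have h3 := two_mul_card_le_ucs_succ hT 2 (hne 2 (by omega))
  have h4 := two_mul_card_le_ucs_succ hT 3 (hne 3 (by omega))
  simp only [Nat.zero_add, Nat.reduceAdd] at h1 h2 h3 h4
  have d := fun i => Cfsg.Agent.PGroup.card_eq_pow hT (Subgroup.upperCentralSeries T i)
  obtain ⟨a1, e1⟩ := d 1
  obtain ⟨a2, e2⟩ := d 2
  obtain ⟨a3, e3⟩ := d 3
  intro i hi
  have k1 : 1 ≤ a1 := by
    by_contra h; rw [Nat.lt_one_iff.mp (not_le.mp h)] at e1; omega
  have p1 : 2 ≤ Nat.card (Subgroup.upperCentralSeries T 1) := by omega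
  have p2 : 4 ≤ Nat.card (Subgroup.upperCentralSeries T 2) := by omega
  have p3 : 8 ≤ Nat.card (Subgroup.upperCentralSeries T 3) := by omega
  interval_cases i <;> first | assumption | omega

/-- A subgroup is exhausted by two cosets of a subgroup of half its order. -/
theorem mul_inv_mem_of_card {K L : Subgroup T} (hKL : K ≤ L)
    (hc : Nat.card L = 2 * Nat.card K) {x y : T} (hx : x ∈ L) (hxK : x ∉ K) (hy : y ∈ L)
    (hyK : y ∉ K) : y * x⁻¹ ∈ K := by
  have hidx : (K.subgroupOf L).index = 2 := by
    have h := (K.subgroupOf L).card_mul_index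
    rw [Nat.card_congr (Subgroup.subgroupOfEquivOfLe hKL).toEquiv, hc, mul_comm 2] at h
    exact Nat.eq_of_mul_eq_mul_left Nat.card_pos h
  have h := (Subgroup.mul_mem_iff_of_index_two hidx (a := ⟨y, hy⟩) (b := ⟨x, hx⟩⁻¹)).mpr
    (iff_of_false hyK (by rw [inv_mem_iff]; exact hxK))
  exact h

end Cfsg.Agent.RuSylow
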